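import Groth.Agent.Sga3.H823.NilQuot
import Groth.Agent.Sga3C.QuotRel
import Groth.Agent.Flat2C.Thick
import Mathlib.AlgebraicGeometry.Morphisms.Flat
import Mathlib.AlgebraicGeometry.Morphisms.FinitePresentation
import Mathlib.AlgebraicGeometry.Morphisms.ClosedImmersion

/-!
# fppf quotients of affine equivalence relations lift along nilpotent thickenings
-/

set_option autoImplicit false

universe u

open CategoryTheory Limits AlgebraicGeometry

namespace Groth.Agent.Sga3.H823.AffineQuot

open Groth.Agent.Sga3C.QuotRel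

theorem exists_quot_affine {W W₀ V₀ R R₀ : Scheme.{u}} [IsAffine W] [IsAffine V₀] [IsAffine R]
    {t s : R ⟶ W} (hR : IsERel t s) [Flat s] [Surjective s] [Flat t]
    {i : W₀ ⟶ W} [IsClosedImmersion i] (hi : IsNilpotent i.ker)
    {p : W₀ ⟶ V₀} [Flat p] [Surjective p] [LocallyOfFinitePresentation p]
    {iR : R₀ ⟶ R} {t₀ s₀ : R₀ ⟶ W₀} (hs : IsPullback iR s₀ s i) (ht : IsPullback iR t₀ t i)
    (h0 : IsPullback t₀ s₀ p p) :
    ∃ (Y : Scheme.{u}) (q : W ⟶ Y), Flat q ∧ Surjective q ∧ LocallyOfFinitePresentation q ∧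
      IsPullback t s q q := by
  have : IsAffine W₀ := isAffine_of_isAffineHom i
  have : IsAffineHom (i : W₀ ⟶ W) := inferInstance
  have : IsAffine R₀ := .of_isPullback hs
  -- the composition
  obtain ⟨c, hct, hcs⟩ := hR.trans (a := pullback.snd t s ≫ t) (b := pullback.snd t s ≫ s)
    (c := pullback.fst t s ≫ s) ⟨pullback.snd t s, rfl, rfl⟩
    ⟨pullback.fst t s, pullback.condition, rfl⟩
  have hχ : Function.Surjective i.appTop.hom := i.app_surjective ⊤ (isAffineOpen_top W)
  have hn : IsNilpotent (RingHom.ker i.appTop.hom) :=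
    Flat2C.Thick.isNilpotent_ker_app i hi (isAffineOpen_top W)
  obtain ⟨C, q, ψ, -, -, hq, hpo, hfp⟩ := NilQuot.exists_quot (ι₀ := p.appTop)
    (s₀ := s₀.appTop) (t₀ := t₀.appTop) (χB := i.appTop) (χD := iR.appTop) (s := s.appTop)
    (t := t.appTop) (inl := (pullback.fst t s).appTop) (inr := (pullback.snd t s).appTop)
    (d1 := c.appTop)
    ((Flat.flat_and_surjective_iff_faithfullyFlat_of_isAffine p).1 ⟨inferInstance, inferInstance⟩)
    (isPushout_appTop_of_isPullback h0.flip) hχ hn (isPushout_appTop_of_isPullback hs.flip)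
    (isPushout_appTop_of_isPullback ht.flip)
    ((Flat.flat_and_surjective_iff_faithfullyFlat_of_isAffine s).1 ⟨inferInstance, inferInstance⟩)
    (Scheme.Hom.flat_appTop t)
    (isPushout_appTop_of_isPullback (IsPullback.of_hasPullback t s))
    (by rw [← Scheme.Hom.comp_appTop, ← Scheme.Hom.comp_appTop, hcs])
    (by rw [← Scheme.Hom.comp_appTop, ← Scheme.Hom.comp_appTop, hct])
  have hpfp : p.appTop.hom.FinitePresentation :=
    HasRingHomProperty.appTop (P := @LocallyOfFinitePresentation) p inferInstance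
  have hqf := (flat_and_surjective_SpecMap_iff q).2 hq
  have hqf1 := hqf.1
  have hqf2 := hqf.2
  have hqfp : LocallyOfFinitePresentation (Spec.map q) :=
    (LocallyOfFinitePresentation.SpecMap_iff q).2 (hfp hpfp)
  refine ⟨Spec C, W.isoSpec.hom ≫ Spec.map q, inferInstance, inferInstance, inferInstance, ?_⟩
  have h1 : IsPullback (Spec.map t.appTop) (Spec.map s.appTop) (Spec.map q) (Spec.map q) :=
    (isPullback_SpecMap_of_isPushout _ _ _ _ hpo).flip
  refine h1.of_iso R.isoSpec.symm W.isoSpec.symm W.isoSpec.symm (Iso.refl _) ?_ ?_ ?_ ?_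
  · simp only [Iso.symm_hom]
    rw [Scheme.isoSpec_inv_naturality]
  · simp only [Iso.symm_hom]
    rw [Scheme.isoSpec_inv_naturality]
  · simp
  · simp

end Groth.Agent.Sga3.H823.AffineQuot
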