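import Groth.Agent.Sga3.H823.RelPull
import Groth.Agent.Sga3.H823.AffineQuot
import Groth.Agent.Sga3C.QuotGlue
import Groth.Agent.Flat2C.AffineThickening
import Mathlib.AlgebraicGeometry.Limits

/-!
# fppf quotients lift along nilpotent thickenings

`exists_isQuot`: `R ⇉ U` a flat, locally finitely presented equivalence relation and
`c₀ : U₀ ⟶ U` a saturated closed subscheme with nilpotent ideal.  If the induced relation on `U₀`
has an fppf quotient then so has `R`.
-/

set_option autoImplicit false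

universe u

open CategoryTheory Limits AlgebraicGeometry

namespace Groth.Agent.Sga3.H823.Thick

open Groth.Agent.Sga3C.QuotRel RelPull

variable {R U U₀ Y₀ : Scheme.{u}} {t s : R ⟶ U}

/-- The hypotheses on a saturated thickening with a quotient. -/
structure Data (t s : R ⟶ U) (c₀ : U₀ ⟶ U) (p₀ : U₀ ⟶ Y₀) : Prop where
  closed : IsClosedImmersion c₀
  surj : Surjective c₀
  nil : IsNilpotent c₀.ker
  sat_left : ∀ {T : Scheme.{u}} (r : T ⟶ R) (a : T ⟶ U₀), r ≫ t = a ≫ c₀ → ∃ b, r ≫ s = b ≫ c₀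
  sat_right : ∀ {T : Scheme.{u}} (r : T ⟶ R) (b : T ⟶ U₀), r ≫ s = b ≫ c₀ → ∃ a, r ≫ t = a ≫ c₀
  flat : Flat p₀
  surjp : Surjective p₀
  lfp : LocallyOfFinitePresentation p₀
  rel_iff : ∀ {T : Scheme.{u}} (a b : T ⟶ U₀), a ≫ p₀ = b ≫ p₀ ↔ Rel t s (a ≫ c₀) (b ≫ c₀)

variable {c₀ : U₀ ⟶ U} {p₀ : U₀ ⟶ Y₀}

theorem Data.injective (h : Data t s c₀ p₀) : Function.Injective c₀ := by
  have := h.closed
  exact c₀.isClosedEmbedding.injective

theorem Data.isOpenMap (h : Data t s c₀ p₀) : IsOpenMap c₀ := by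
  have := h.closed
  have := h.surj
  exact (c₀.isClosedEmbedding.isEmbedding.isOpenEmbedding_of_surjective
    c₀.surjective).isOpenMap

/-- The saturated open attached to an open of `Y₀`. -/
def satOpen (h : Data t s c₀ p₀) (V₀ : Y₀.Opens) : U.Opens :=
  ⟨c₀ '' ((p₀ ⁻¹ᵁ V₀ : U₀.Opens) : Set U₀), h.isOpenMap _ (p₀ ⁻¹ᵁ V₀).2⟩

theorem mem_satOpen (h : Data t s c₀ p₀) (V₀ : Y₀.Opens) (x : U₀) :
    c₀ x ∈ satOpen h V₀ ↔ p₀ x ∈ V₀ := by
  constructor
  · rintro ⟨y, hy, hyx⟩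
    rw [← h.injective hyx]
    exact hy
  · intro hx
    exact ⟨x, hx, rfl⟩

theorem sat_satOpen (h : Data t s c₀ p₀) (V₀ : Y₀.Opens) : Sat t s (satOpen h V₀) := by
  intro r
  have := h.surj
  obtain ⟨r₀, hr₀⟩ := (pullback.fst t c₀).surjective r
  obtain ⟨b, hb⟩ := h.sat_left (pullback.fst t c₀) (pullback.snd t c₀) pullback.condition
  have h1 : t r = c₀ (pullback.snd t c₀ r₀) := by
    rw [← hr₀, ← Scheme.Hom.comp_apply, pullback.condition, Scheme.Hom.comp_apply]
  have h2 : s r = c₀ (b r₀) := by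
    rw [← hr₀, ← Scheme.Hom.comp_apply, hb, Scheme.Hom.comp_apply]
  have h3 : pullback.snd t c₀ ≫ p₀ = b ≫ p₀ :=
    (h.rel_iff _ _).2 ⟨pullback.fst t c₀, pullback.condition, hb⟩
  have h4 : p₀ (pullback.snd t c₀ r₀) = p₀ (b r₀) := by
    rw [← Scheme.Hom.comp_apply, h3, Scheme.Hom.comp_apply]
  rw [h1, h2, mem_satOpen, mem_satOpen, h4]

/-- The quotient of a chart. -/
theorem exists_quot_chart (hR : IsERel t s) [Flat s] [Flat t]
    (h : Data t s c₀ p₀) (V₀ : Y₀.Opens) (hV₀ : IsAffineOpen V₀)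
    {W : Scheme.{u}} [IsAffine W] (f : W ⟶ U) [Flat f] [LocallyOfFinitePresentation f]
    (hf : Set.range f ⊆ satOpen h V₀)
    (hc : ∀ y ∈ V₀, ∃ x : U₀, p₀ x = y ∧ c₀ x ∈ Set.range f) :
    ∃ (Y : Scheme.{u}) (q : W ⟶ Y), Sga3C.QuotBase.IsQuotOn t s f q := by
  have := h.closed
  have := h.surj
  have := h.flat
  have := h.surjp
  have := h.lfp
  have hV₀' : IsAffine V₀.toScheme := hV₀
  let i : pullback f c₀ ⟶ W := pullback.fst f c₀
  let f₀ : pullback f c₀ ⟶ U₀ := pullback.snd f c₀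
  have hif : i ≫ f = f₀ ≫ c₀ := pullback.condition
  have hi : IsClosedImmersion i := inferInstance
  have hi' : Surjective i := inferInstance
  have hin : IsNilpotent i.ker :=
    Flat2C.Thick.isNilpotent_ker_of_isPullback (IsPullback.of_hasPullback f c₀) h.nil
  have : IsAffine (pullback f c₀) := isAffine_of_isAffineHom i
  have hr : Set.range (f₀ ≫ p₀) ⊆ Set.range V₀.ι := by
    rintro _ ⟨w, rfl⟩
    rw [Scheme.Opens.range_ι]
    change (f₀ ≫ p₀) w ∈ V₀
    rw [Scheme.Hom.comp_apply, ← mem_satOpen h, ← Scheme.Hom.comp_apply, ← hif,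
      Scheme.Hom.comp_apply]
    exact hf ⟨_, rfl⟩
  let p : pullback f c₀ ⟶ V₀.toScheme := IsOpenImmersion.lift V₀.ι (f₀ ≫ p₀) hr
  have hp : p ≫ V₀.ι = f₀ ≫ p₀ := IsOpenImmersion.lift_fac _ _ _
  have hpb : IsPullback p (𝟙 _) V₀.ι (f₀ ≫ p₀) := IsOpenImmersion.isPullback_lift_id _ _ hr
  have hp1 : Flat p := MorphismProperty.of_isPullback hpb.flip inferInstance
  have hp2 : LocallyOfFinitePresentation p := MorphismProperty.of_isPullback hpb.flip inferInstance
  have hp3 : Surjective p := by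
    refine ⟨fun y => ?_⟩
    obtain ⟨x, hx, w, hw⟩ := hc y.1 y.2
    obtain ⟨z, hz1, hz2⟩ := Scheme.Pullback.exists_preimage_pullback (f := f) (g := c₀) w x hw
    refine ⟨z, V₀.ι.injective ?_⟩
    rw [← Scheme.Hom.comp_apply, hp, Scheme.Hom.comp_apply]
    change p₀ (pullback.snd f c₀ z) = _
    rw [hz2, hx]
    rfl
  have hRW := isERel f hR
  have hsW := surjective_sW f hR
  -- the thin relation
  let R₀ := pullback p p
  let a₀ : R₀ ⟶ pullback f c₀ := pullback.fst p p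
  let b₀ : R₀ ⟶ pullback f c₀ := pullback.snd p p
  have hpp : ∀ {T : Scheme.{u}} (a b : T ⟶ pullback f c₀), a ≫ p = b ≫ p ↔
      Rel (tW t s f) (sW t s f) (a ≫ i) (b ≫ i) := by
    intro T a b
    rw [RelPull.rel_iff, Category.assoc, Category.assoc, hif, ← Category.assoc, ← Category.assoc,
      ← h.rel_iff, ← cancel_mono V₀.ι, Category.assoc, Category.assoc, hp, Category.assoc,
      Category.assoc]
  obtain ⟨iR, hiRt, hiRs⟩ := (hpp a₀ b₀).1 pullback.condition
  have hps : IsPullback iR b₀ (sW t s f) i := by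
    refine isPullback_of_exists hiRs ?_ ?_
    · intro T x y h1 h2
      refine pullback.hom_ext ?_ h2
      rw [← cancel_mono i, Category.assoc, Category.assoc]
      change x ≫ a₀ ≫ i = y ≫ a₀ ≫ i
      rw [← hiRt, ← Category.assoc, h1, Category.assoc]
    · intro T x y hxy
      obtain ⟨b, hb⟩ := h.sat_right (x ≫ ρ t s f) (y ≫ f₀) (by
        rw [Category.assoc, ρ_s, ← Category.assoc, hxy, Category.assoc, hif, Category.assoc])
      have hx1 : (x ≫ tW t s f) ≫ f = b ≫ c₀ := by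
        rw [← hb, Category.assoc, Category.assoc, ρ_t]
      let y' : T ⟶ pullback f c₀ := pullback.lift (x ≫ tW t s f) b hx1
      have hy' : y' ≫ i = x ≫ tW t s f := pullback.lift_fst _ _ _
      have hyy : y' ≫ p = y ≫ p := by
        rw [hpp, hy', ← hxy]
        exact ⟨x, rfl, rfl⟩
      refine ⟨pullback.lift y' y hyy, ?_, pullback.lift_snd _ _ _⟩
      apply hRW.mono
      · rw [Category.assoc, hiRt, ← Category.assoc]
        change (pullback.lift y' y hyy ≫ pullback.fst p p) ≫ i = _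
        rw [pullback.lift_fst, hy']
      · rw [Category.assoc, hiRs, ← Category.assoc]
        change (pullback.lift y' y hyy ≫ pullback.snd p p) ≫ i = _
        rw [pullback.lift_snd, hxy]
  have hpt : IsPullback iR a₀ (tW t s f) i := by
    refine isPullback_of_exists hiRt ?_ ?_
    · intro T x y h1 h2
      refine pullback.hom_ext h2 ?_
      rw [← cancel_mono i, Category.assoc, Category.assoc]
      change x ≫ b₀ ≫ i = y ≫ b₀ ≫ i
      rw [← hiRs, ← Category.assoc, h1, Category.assoc]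
    · intro T x y hxy
      obtain ⟨b, hb⟩ := h.sat_left (x ≫ ρ t s f) (y ≫ f₀) (by
        rw [Category.assoc, ρ_t, ← Category.assoc, hxy, Category.assoc, hif, Category.assoc])
      have hx1 : (x ≫ sW t s f) ≫ f = b ≫ c₀ := by
        rw [← hb, Category.assoc, Category.assoc, ρ_s]
      let y' : T ⟶ pullback f c₀ := pullback.lift (x ≫ sW t s f) b hx1
      have hy' : y' ≫ i = x ≫ sW t s f := pullback.lift_fst _ _ _
      have hyy : y ≫ p = y' ≫ p := by
        rw [hpp, hy', ← hxy]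
        exact ⟨x, rfl, rfl⟩
      refine ⟨pullback.lift y y' hyy, ?_, pullback.lift_fst _ _ _⟩
      apply hRW.mono
      · rw [Category.assoc, hiRt, ← Category.assoc]
        change (pullback.lift y y' hyy ≫ pullback.fst p p) ≫ i = _
        rw [pullback.lift_fst, hxy]
      · rw [Category.assoc, hiRs, ← Category.assoc]
        change (pullback.lift y y' hyy ≫ pullback.snd p p) ≫ i = _
        rw [pullback.lift_snd, hy']
  have : IsClosedImmersion iR := MorphismProperty.of_isPullback hps.flip hi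
  have : Surjective iR := MorphismProperty.of_isPullback hps.flip hi'
  have : IsAffine R₀ := inferInstanceAs (IsAffine (pullback p p))
  have : IsAffine (RW t s f) := Flat2C.AffineThickening.isAffine_of_thickening iR
  obtain ⟨Y, q, hq1, hq2, hq3, hq⟩ := AffineQuot.exists_quot_affine hRW hin hps hpt
    (IsPullback.of_hasPullback p p)
  refine ⟨Y, q, hq1, hq2, hq3, ?_⟩
  intro T x y
  change Rel t s (x ≫ f) (y ≫ f) ↔ _
  rw [← RelPull.rel_iff]
  constructor
  · rintro ⟨r, rfl, rfl⟩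
    rw [Category.assoc, hq.w, Category.assoc]
  · intro hxy
    exact ⟨hq.lift x y hxy, hq.lift_fst _ _ _, hq.lift_snd _ _ _⟩

theorem hasQuot_satOpen (hR : IsERel t s) [Flat s] [LocallyOfFinitePresentation s] [Flat t]
    [LocallyOfFinitePresentation t]
    (h : Data t s c₀ p₀) (V₀ : Y₀.Opens) (hV₀ : IsAffineOpen V₀) :
    HasQuot t s (satOpen h V₀) := by
  have := h.closed
  have := h.surj
  have := h.flat
  have := h.surjp
  have := h.lfp
  -- finitely many affine opens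
  have h1 : ∀ y : V₀, ∃ (O : U.Opens), IsAffineOpen O ∧ O ≤ satOpen h V₀ ∧
      ∃ x : U₀, p₀ x = y ∧ c₀ x ∈ O := by
    rintro ⟨y, hy⟩
    obtain ⟨x, rfl⟩ := p₀.surjective y
    obtain ⟨_, ⟨O, hO, rfl⟩, hxO, hOV⟩ := U.isBasis_affineOpens.exists_subset_of_mem_open
      (show c₀ x ∈ ((satOpen h V₀ : U.Opens) : Set U) from (mem_satOpen h V₀ x).2 hy)
      (satOpen h V₀).2
    exact ⟨O, hO, hOV, x, rfl, hxO⟩
  choose O hO hOV x hx hxO using h1
  have hcomp : IsCompact (V₀ : Set Y₀) := hV₀.isCompact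
  obtain ⟨S, hS⟩ := hcomp.elim_finite_subcover
    (fun y : V₀ => p₀ '' ((c₀ ⁻¹ᵁ O y : U₀.Opens) : Set U₀))
    (fun y => p₀.isOpenMap _ (c₀ ⁻¹ᵁ O y).2)
    (fun y hy => Set.mem_iUnion.2 ⟨⟨y, hy⟩, x ⟨y, hy⟩, hxO _, hx _⟩)
  let W : Scheme.{u} := ∐ fun y : S => (O y.1).toScheme
  have hOa : ∀ y : S, IsAffine (O y.1).toScheme := fun y => hO y.1
  have hW : IsAffine W := inferInstanceAs (IsAffine (∐ fun y : S => (O y.1).toScheme))
  let f : W ⟶ U := Sigma.desc fun y : S => (O y.1).ι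
  have hf1 : Flat f := IsZariskiLocalAtSource.sigmaDesc (P := @Flat) fun _ => inferInstance
  have hf2 : LocallyOfFinitePresentation f :=
    IsZariskiLocalAtSource.sigmaDesc (P := @LocallyOfFinitePresentation) fun _ => inferInstance
  have hfr : ∀ u : U, u ∈ Set.range f ↔ ∃ y ∈ S, u ∈ O y := by
    intro u
    constructor
    · rintro ⟨w, rfl⟩
      obtain ⟨⟨y, v⟩, rfl⟩ := (sigmaMk (fun y : S => (O y.1).toScheme)).surjective w
      refine ⟨y.1, y.2, ?_⟩
      rw [sigmaMk_mk, ← Scheme.Hom.comp_apply, Sigma.ι_desc]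
      exact v.2
    · rintro ⟨y, hy, hu⟩
      refine ⟨Sigma.ι (fun y : S => (O y.1).toScheme) ⟨y, hy⟩ ⟨u, hu⟩, ?_⟩
      rw [← Scheme.Hom.comp_apply, Sigma.ι_desc]
      rfl
  have hfV : Set.range f ⊆ satOpen h V₀ := by
    intro u hu
    obtain ⟨y, -, hy⟩ := (hfr u).1 hu
    exact hOV y hy
  obtain ⟨Y, q, hq⟩ := exists_quot_chart hR h V₀ hV₀ f hfV (by
    intro y hy
    obtain ⟨y', hy', x', hx', hx''⟩ := by simpa only [Set.mem_iUnion, exists_prop] using hS hy
    exact ⟨x', hx'', (hfr _).2 ⟨y', hy', hx'⟩⟩)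
  -- from the chart to its saturation
  let V := satOpen h V₀
  have hrg : Set.range f ⊆ Set.range V.ι := by
    rw [Scheme.Opens.range_ι]
    exact hfV
  let g : W ⟶ V.toScheme := IsOpenImmersion.lift V.ι f hrg
  have hg : g ≫ V.ι = f := IsOpenImmersion.lift_fac _ _ _
  have hgpb : IsPullback g (𝟙 _) V.ι f := IsOpenImmersion.isPullback_lift_id _ _ hrg
  have hg1 : Flat g := MorphismProperty.of_isPullback hgpb.flip hf1
  have hg2 : LocallyOfFinitePresentation g := MorphismProperty.of_isPullback hgpb.flip hf2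
  have hq' : Sga3C.QuotBase.IsQuotOn t s (g ≫ V.ι) q := by rw [hg]; exact hq
  obtain ⟨q', -, hq'⟩ := Sga3C.QuotBase.IsQuotOn.of_cover (isEqRel hR) V.ι g (by
    intro v
    obtain ⟨x', hx', hx''⟩ := v.2
    have hx2 : p₀ x' ∈ (V₀ : Set Y₀) := hx'
    obtain ⟨y', hy', z, hz, hz'⟩ := by simpa only [Set.mem_iUnion, exists_prop] using hS hx2
    obtain ⟨w, hw⟩ := (hfr (c₀ z)).2 ⟨y', hy', hz⟩
    obtain ⟨r, hr1, hr2⟩ := (h.rel_iff (pullback.fst p₀ p₀) (pullback.snd p₀ p₀)).1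
      pullback.condition
    obtain ⟨a, ha1, ha2⟩ := Scheme.Pullback.exists_preimage_pullback (f := p₀) (g := p₀) z x' hz'
    refine ⟨w, r a, ?_, ?_⟩
    · rw [← Scheme.Hom.comp_apply, hr1, Scheme.Hom.comp_apply, ha1, ← Scheme.Hom.comp_apply, hg, hw]
    · rw [← Scheme.Hom.comp_apply, hr2, Scheme.Hom.comp_apply, ha2, hx'']
      rfl) hq'
  exact ⟨Y, q', hq'.flat, hq'.surj, hq'.lfp, fun a b => (hq'.rel_iff a b).symm⟩

/-- **Lifting of fppf quotients along nilpotent thickenings.** -/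
theorem exists_isQuot (hR : IsERel t s) [Flat s] [LocallyOfFinitePresentation s] [Flat t]
    [LocallyOfFinitePresentation t] (h : Data t s c₀ p₀) :
    ∃ (X : Scheme.{u}) (q : U ⟶ X), IsQuot t s q := by
  refine Sga3C.QuotGlue.exists_isQuot hR fun x => ?_
  have := h.surj
  obtain ⟨x₀, rfl⟩ := c₀.surjective x
  obtain ⟨_, ⟨V₀, hV₀, rfl⟩, hxV, -⟩ := Y₀.isBasis_affineOpens.exists_subset_of_mem_open
    (show p₀ x₀ ∈ ((⊤ : Y₀.Opens) : Set Y₀) from trivial) (⊤ : Y₀.Opens).2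
  exact ⟨satOpen h V₀, (mem_satOpen h V₀ x₀).2 hxV, sat_satOpen h V₀, hasQuot_satOpen hR h V₀ hV₀⟩

end Groth.Agent.Sga3.H823.Thick
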