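import Mathlib.RingTheory.Flat.FaithfullyFlat.Basic
import Mathlib.RingTheory.Flat.Equalizer
import Mathlib.LinearAlgebra.TensorProduct.RightExactness
import Mathlib.RingTheory.IsTensorProduct
import Mathlib.RingTheory.Ideal.Maps
import Mathlib.Algebra.Module.RingHom

/-!
# Linear algebra behind the lifting of quotients along square-zero thickenings

`mem_range_of_cocycle`, `bijective_kerTensor`: two consequences of faithful flatness used to descend a
module along a faithfully flat map.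
`exists_theta`: for a flat `f : A → F` and a square-zero ideal `I` of `A`, the map
`B' ⊗[C₀] I → F` is injective with image `I F`, when `F / I F = B' ⊗[C₀] (A / I)`.
-/

set_option autoImplicit false

universe u

open TensorProduct Function

namespace Groth.Agent.Sga3.H823.Abstract

section abs

variable {C₀ B₀ : Type u} [CommRing C₀] [CommRing B₀] [Algebra C₀ B₀]
  {M N P : Type u} [AddCommGroup M] [AddCommGroup N] [AddCommGroup P] [Module C₀ M] [Module C₀ N]

/-- Exactness in degree one. -/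
theorem mem_range_of_cocycle [Module.FaithfullyFlat C₀ B₀] (α : M →ₗ[C₀] N)
    (θ₁ : B₀ ⊗[C₀] M →+ N) (h₁ : Surjective θ₁) (θ₂ : B₀ ⊗[C₀] N →+ P) (h₂ : Injective θ₂)
    (δ : N →+ P) (h : ∀ x, δ (θ₁ x) = θ₂ (α.lTensor B₀ x)) (z : N) (hz : δ z = θ₂ (1 ⊗ₜ z)) :
    ∃ m, α m = z := by
  obtain ⟨x, hx⟩ := h₁ z
  have h4 : (1 : B₀) ⊗ₜ[C₀] z = α.lTensor B₀ x := by
    apply h₂
    rw [← hz, ← hx, h]
  have h5 : (1 : B₀) ⊗ₜ[C₀] ((LinearMap.range α).mkQ z) = 0 := by
    have : (1 : B₀) ⊗ₜ[C₀] ((LinearMap.range α).mkQ z) =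
        (LinearMap.range α).mkQ.lTensor B₀ ((1 : B₀) ⊗ₜ[C₀] z) := by simp
    rw [this, h4, ← LinearMap.comp_apply, ← LinearMap.lTensor_comp]
    have : (LinearMap.range α).mkQ ∘ₗ α = 0 := by
      ext x
      simp
    rw [this]
    simp
  rw [Module.FaithfullyFlat.one_tmul_eq_zero_iff] at h5
  simpa using h5

/-- The kernel of `α` generates `M` over `B₀`, freely. -/
theorem bijective_kerTensor [Module.Flat C₀ B₀] [Module B₀ M] [IsScalarTower C₀ B₀ M]
    (α : M →ₗ[C₀] N)
    (θ₁ : B₀ ⊗[C₀] M →+ N) (h₁ : Bijective θ₁) (θ₂ : B₀ ⊗[C₀] N →+ P) (h₂ : Injective θ₂)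
    (δ : N →+ P) (h : ∀ x, δ (θ₁ x) = θ₂ (α.lTensor B₀ x))
    (σ : M →+ N) (hσ : Injective σ) (hσδ : ∀ m, δ (σ m) = 0)
    (hθσ : ∀ (b : B₀) (k : LinearMap.ker α), θ₁ (b ⊗ₜ (k : M)) = σ (b • (k : M))) :
    Bijective ((LinearMap.ker α).subtype.liftBaseChange B₀ : B₀ ⊗[C₀] (LinearMap.ker α) →ₗ[B₀] M) := by
  have key : ∀ x : B₀ ⊗[C₀] (LinearMap.ker α), θ₁ ((LinearMap.ker α).subtype.lTensor B₀ x) =
      σ ((LinearMap.ker α).subtype.liftBaseChange B₀ x) := by
    intro x
    induction x using TensorProduct.induction_on with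
    | zero => simp
    | add x y hx hy => simp only [map_add, hx, hy]
    | tmul b k =>
      rw [LinearMap.lTensor_tmul, LinearMap.liftBaseChange_tmul]
      exact hθσ b k
  have hinj : Injective ((LinearMap.ker α).subtype.lTensor B₀) :=
    Module.Flat.lTensor_preserves_injective_linearMap _ (LinearMap.ker α).injective_subtype
  constructor
  · intro x y hxy
    apply hinj
    apply h₁.1
    rw [key, key, hxy]
  · intro m
    obtain ⟨x, hx⟩ := h₁.2 (σ m)
    have h3 : α.lTensor B₀ x = 0 := by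
      apply h₂
      rw [← h, hx, hσδ, map_zero]
    have hex : Exact ((LinearMap.ker α).subtype.lTensor B₀) (α.lTensor B₀) :=
      Module.Flat.lTensor_exact B₀ (LinearMap.exact_subtype_ker_map α)
    obtain ⟨y, rfl⟩ := (hex x).1 h3
    refine ⟨y, hσ ?_⟩
    rw [← key, hx]

end abs

section mods

variable {A A₀ : Type u} [CommRing A] [CommRing A₀]

/-- If `f : A → A₀` is surjective with kernel killing the `A`-module `M` then `M` is an `A₀`-module. -/
noncomputable abbrev moduleOfSurjective (f : A →+* A₀) (hf : Surjective f) {M : Type u}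
    [AddCommGroup M] [Module A M] (h : ∀ a, f a = 0 → ∀ m : M, a • m = 0) : Module A₀ M :=
  letI : SMul A₀ M := ⟨fun a m => (surjInv hf a) • m⟩
  Function.Surjective.moduleLeft f hf (fun a m => by
    change (surjInv hf (f a)) • m = a • m
    rw [← sub_eq_zero, ← sub_smul]
    apply h
    rw [map_sub, surjInv_eq hf, sub_self])

theorem moduleOfSurjective_smul (f : A →+* A₀) (hf : Surjective f) {M : Type u}
    [AddCommGroup M] [Module A M] (h : ∀ a, f a = 0 → ∀ m : M, a • m = 0) (a : A) (m : M) :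
    letI := moduleOfSurjective f hf h
    f a • m = a • m := by
  change (surjInv hf (f a)) • m = a • m
  rw [← sub_eq_zero, ← sub_smul]
  apply h
  rw [map_sub, surjInv_eq hf, sub_self]

end mods

section theta

variable {C₀ B' A₀ F₀ A F : Type u} [CommRing C₀] [CommRing B'] [CommRing A₀] [CommRing F₀]
  [CommRing A] [CommRing F]

/-- `F` flat over `A`, `A → A₀` surjective with kernel the square zero ideal `I`, `F₀ = F ⊗[A] A₀` and
`F₀ = B' ⊗[C₀] A₀`. Then `B' ⊗[C₀] I → F` is injective with image `I F`. -/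
theorem exists_theta [Algebra C₀ B'] [Algebra C₀ A₀] [Algebra B' F₀] [Algebra A₀ F₀]
    [Algebra C₀ F₀] [IsScalarTower C₀ B' F₀] [IsScalarTower C₀ A₀ F₀]
    [Algebra A A₀] [Algebra A F] [Algebra F F₀] [Algebra A F₀] [IsScalarTower A A₀ F₀]
    [IsScalarTower A F F₀] [Algebra.IsPushout A F A₀ F₀] [Algebra.IsPushout C₀ B' A₀ F₀]
    [Module.Flat A F] (I : Ideal A) [Module A₀ I] [IsScalarTower A A₀ I]
    [Module C₀ I] [IsScalarTower C₀ A₀ I] :
    ∃ Θ : B' ⊗[C₀] I →+ F, Injective Θ ∧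
      (∀ (φ : F) (b : B') (x : I), algebraMap F F₀ φ = algebraMap B' F₀ b →
        Θ (b ⊗ₜ x) = φ * algebraMap A F x) ∧
      (∀ z, z ∈ I.map (algebraMap A F) ↔ ∃ x, Θ x = z) := by
  let e₁ : F₀ ⊗[A₀] I ≃ₗ[F] F ⊗[A] I := Algebra.IsPushout.cancelBaseChange A F A₀ F₀ I
  let e₂ : F₀ ⊗[A₀] I ≃ₗ[B'] B' ⊗[C₀] I := Algebra.IsPushout.cancelBaseChange C₀ B' A₀ F₀ I
  let μ : F ⊗[A] I →ₗ[A] F := (TensorProduct.rid A F).toLinearMap ∘ₗ (I.subtype.lTensor F)
  have hμ : Injective μ := (TensorProduct.rid A F).injective.comp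
    (Module.Flat.lTensor_preserves_injective_linearMap _ I.injective_subtype)
  have hμt : ∀ (φ : F) (x : I), μ (φ ⊗ₜ x) = φ * algebraMap A F x := by
    intro φ x
    simp [μ, Algebra.smul_def, mul_comm]
  let Θ : B' ⊗[C₀] I →+ F := μ.toAddMonoidHom.comp
    (e₁.toAddEquiv.toAddMonoidHom.comp e₂.symm.toAddEquiv.toAddMonoidHom)
  have hΘ : ∀ x, Θ x = μ (e₁ (e₂.symm x)) := fun x => rfl
  have hΘe : ∀ y, Θ (e₂ (e₁.symm y)) = μ y := fun y => by
    rw [hΘ, e₂.symm_apply_apply, e₁.apply_symm_apply]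
  refine ⟨Θ, ?_, ?_, ?_⟩
  · intro x y hxy
    exact e₂.symm.injective (e₁.injective (hμ hxy))
  · intro φ b x h
    have h1 : e₂.symm (b ⊗ₜ x) = algebraMap B' F₀ b ⊗ₜ x :=
      Algebra.IsPushout.cancelBaseChange_symm_tmul C₀ B' A₀ F₀ I b x
    have h2 : e₁.symm (φ ⊗ₜ x) = algebraMap F F₀ φ ⊗ₜ x :=
      Algebra.IsPushout.cancelBaseChange_symm_tmul A F A₀ F₀ I φ x
    rw [hΘ, h1, ← h, ← h2, e₁.apply_symm_apply, hμt]
  · intro z
    constructor
    · intro hz
      rw [Ideal.map, ← Ideal.submodule_span_eq] at hz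
      induction hz using Submodule.span_induction with
      | mem x hx =>
        obtain ⟨a, ha, rfl⟩ := hx
        exact ⟨e₂ (e₁.symm ((1 : F) ⊗ₜ (⟨a, ha⟩ : I))), by rw [hΘe, hμt, one_mul]⟩
      | zero => exact ⟨0, map_zero _⟩
      | add x y _ _ hx hy =>
        obtain ⟨x', rfl⟩ := hx
        obtain ⟨y', rfl⟩ := hy
        exact ⟨x' + y', map_add _ _ _⟩
      | smul a x _ hx =>
        obtain ⟨x', rfl⟩ := hx
        refine ⟨e₂ (e₁.symm (a • e₁ (e₂.symm x'))), ?_⟩
        rw [hΘe, hΘ]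
        generalize e₁ (e₂.symm x') = y
        induction y using TensorProduct.induction_on with
        | zero => simp
        | add x y hx hy => rw [smul_add, map_add, map_add, hx, hy, smul_add]
        | tmul φ x => rw [TensorProduct.smul_tmul', hμt, hμt, smul_eq_mul, smul_eq_mul, mul_assoc]
    · rintro ⟨x, rfl⟩
      rw [hΘ]
      generalize e₁ (e₂.symm x) = y
      induction y using TensorProduct.induction_on with
      | zero => rw [map_zero]; exact Ideal.zero_mem _
      | add x y hx hy => rw [map_add]; exact Ideal.add_mem _ hx hy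
      | tmul φ x => rw [hμt]; exact Ideal.mul_mem_left _ _ (Ideal.mem_map_of_mem _ x.2)

end theta

end Groth.Agent.Sga3.H823.Abstract
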