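import Groth.Agent.Sga3.H823.SqZeroQuot

/-!
# Lifting faithfully flat quotients of affine equivalence relations along nilpotent thickenings

`exists_quot`: no flatness over a base is assumed (compare `Sga3C.QuotNilMain.exists_quot`).
-/

set_option autoImplicit false
set_option linter.style.haveILetI false

universe u

open Function CategoryTheory Limits

namespace Groth.Agent.Sga3.H823.NilQuot

theorem faithfullyFlat_of_isPushout {R S R' S' : CommRingCat.{u}} {f : R ⟶ S} {g : R ⟶ R'}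
    {inl : S ⟶ S'} {inr : R' ⟶ S'} (h : IsPushout f g inl inr) (hf : f.hom.FaithfullyFlat) :
    inr.hom.FaithfullyFlat := by
  letI i1 : Algebra R S := f.hom.toAlgebra
  letI i2 : Algebra R R' := g.hom.toAlgebra
  letI i3 : Algebra S S' := inl.hom.toAlgebra
  letI i4 : Algebra R' S' := inr.hom.toAlgebra
  letI i5 : Algebra R S' := (f ≫ inl).hom.toAlgebra
  have j1 : IsScalarTower R S S' := IsScalarTower.of_algebraMap_eq fun _ => rfl
  have j2 : IsScalarTower R R' S' := IsScalarTower.of_algebraMap_eq fun x =>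
    congr($(h.w).hom x)
  have : Algebra.IsPushout R S R' S' := CommRingCat.isPushout_iff_isPushout.1 h
  exact RingHom.FaithfullyFlat.isStableUnderBaseChange R S R' S' hf

/-- Induction on the order of nilpotency. -/
theorem exists_quot_aux (n : ℕ) : ∀ {C₀ B₀ D₀ B D E : CommRingCat.{u}} {ι₀ : C₀ ⟶ B₀}
    {s₀ t₀ : B₀ ⟶ D₀} {χB : B ⟶ B₀} {χD : D ⟶ D₀} {s t : B ⟶ D} {inl inr d1 : D ⟶ E}
    (_ : ι₀.hom.FaithfullyFlat) (_ : IsPushout ι₀ ι₀ s₀ t₀)
    (_ : Surjective χB.hom) (_ : (RingHom.ker χB.hom) ^ (n + 1) = ⊥)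
    (_ : IsPushout χB s s₀ χD) (_ : IsPushout χB t t₀ χD)
    (_ : s.hom.FaithfullyFlat) (_ : t.hom.Flat)
    (_ : IsPushout t s inl inr) (_ : s ≫ d1 = s ≫ inl) (_ : t ≫ d1 = t ≫ inr),
    ∃ (C : CommRingCat.{u}) (q : C ⟶ B) (ψ : C ⟶ C₀), Surjective ψ.hom ∧
      IsPushout ψ q ι₀ χB ∧ q.hom.FaithfullyFlat ∧ IsPushout q q s t := by
  induction n with
  | zero =>
    intro C₀ B₀ D₀ B D E ι₀ s₀ t₀ χB χD s t inl inr d1 hι h0 hχ hn hs ht hsf htf hE e1 e2
    refine SqZeroQuot.exists_quot_sq hι h0 hχ ?_ hs ht hsf.flat htf hsf.injective hE e1 e2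
    rw [zero_add, pow_one] at hn
    rw [hn, pow_two]
    exact Ideal.bot_mul _
  | succ n ih =>
    intro C₀ B₀ D₀ B D E ι₀ s₀ t₀ χB χD s t inl inr d1 hι h0 hχ hn hs ht hsf htf hE e1 e2
    set I := RingHom.ker χB.hom with hI
    let K : Ideal B := I ^ (n + 1)
    have hsq : K ^ 2 = ⊥ := by
      rw [eq_bot_iff, ← hn, ← pow_mul]
      exact Ideal.pow_le_pow_right (by omega)
    have hKI : K ≤ I := Ideal.pow_le_self (by omega)
    have hkerDs : RingHom.ker χD.hom = I.map s.hom := Flat2D.NilpFlat2.ker_of_isPushout hs hχ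
    have hkerDt : RingHom.ker χD.hom = I.map t.hom := Flat2D.NilpFlat2.ker_of_isPushout ht hχ
    let KD : Ideal D := K.map s.hom
    have hKDt : KD = K.map t.hom := by
      change K.map s.hom = K.map t.hom
      rw [Ideal.map_pow, Ideal.map_pow, ← hkerDs, ← hkerDt]
    let B' : CommRingCat.{u} := CommRingCat.of (B ⧸ K)
    let D' : CommRingCat.{u} := CommRingCat.of (D ⧸ KD)
    let χB' : B ⟶ B' := CommRingCat.ofHom (Ideal.Quotient.mk K)
    let χD' : D ⟶ D' := CommRingCat.ofHom (Ideal.Quotient.mk KD)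
    have hχB' : Surjective χB'.hom := Ideal.Quotient.mk_surjective
    have hχD' : Surjective χD'.hom := Ideal.Quotient.mk_surjective
    have hkB' : RingHom.ker χB'.hom = K := Ideal.mk_ker
    have hkD' : RingHom.ker χD'.hom = KD := Ideal.mk_ker
    have : Epi χB' := ConcreteCategory.epi_of_surjective _ hχB'
    have : Epi χD' := ConcreteCategory.epi_of_surjective _ hχD'
    let s' : B' ⟶ D' := CommRingCat.ofHom (Ideal.quotientMap KD s.hom Ideal.le_comap_map)
    let t' : B' ⟶ D' := CommRingCat.ofHom (Ideal.quotientMap KD t.hom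
      (by rw [hKDt]; exact Ideal.le_comap_map))
    have ws : χB' ≫ s' = s ≫ χD' := by
      ext x
      rfl
    have wt : χB' ≫ t' = t ≫ χD' := by
      ext x
      rfl
    have ps : IsPushout χB' s s' χD' := Sga3C.QuotNilMain.isPushout_of_surjective ws hχB' hχD'
      (by rw [hkD', hkB'])
    have pt : IsPushout χB' t t' χD' := Sga3C.QuotNilMain.isPushout_of_surjective wt hχB' hχD'
      (by rw [hkD', hkB', hKDt])
    let ξB : B' ⟶ B₀ := CommRingCat.ofHom (Ideal.Quotient.lift K χB.hom hKI)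
    have hξB : χB' ≫ ξB = χB := by
      ext x
      rfl
    have hξBs : Surjective ξB.hom := by
      intro y
      obtain ⟨x, rfl⟩ := hχ y
      exact ⟨χB'.hom x, congr($(hξB).hom x)⟩
    let ξD : D' ⟶ D₀ := ps.desc (ξB ≫ s₀) χD (by rw [← Category.assoc, hξB, hs.w])
    have hξD1 : s' ≫ ξD = ξB ≫ s₀ := ps.inl_desc _ _ _
    have hξD : χD' ≫ ξD = χD := ps.inr_desc _ _ _
    have ps₀ : IsPushout ξB s' s₀ ξD := by
      refine IsPushout.of_left (h₁₁ := χB') (h₂₁ := χD') (v₁₁ := s) ?_ hξD1.symm ps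
      rw [hξB, hξD]
      exact hs
    have pt₀ : IsPushout ξB t' t₀ ξD := by
      refine IsPushout.of_left (h₁₁ := χB') (h₂₁ := χD') (v₁₁ := t) ?_ ?_ pt
      · rw [hξB, hξD]
        exact ht
      · rw [← cancel_epi χB', ← Category.assoc, hξB, ← Category.assoc, wt, Category.assoc, hξD, ht.w]
    -- degree two
    obtain ⟨E', inl', inr', χE', p1, p2, p3⟩ : ∃ (E' : CommRingCat.{u}) (inl' inr' : D' ⟶ E')
        (χE' : E ⟶ E'), IsPushout χD' inl inl' χE' ∧ IsPushout χD' inr inr' χE' ∧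
        IsPushout t' s' inl' inr' := by
      have hE0 : IsPushout χD' inl (pushout.inl χD' inl) (pushout.inr χD' inl) :=
        IsPushout.of_hasPushout _ _
      let inl' := pushout.inl χD' inl
      let χE' := pushout.inr χD' inl
      let inr' : D' ⟶ pushout χD' inl := ps.desc (t' ≫ inl') (inr ≫ χE') (by
        rw [← Category.assoc, pt.w, Category.assoc, hE0.w, ← Category.assoc, hE.w, Category.assoc])
      have f1 : s' ≫ inr' = t' ≫ inl' := ps.inl_desc _ _ _
      have f2 : χD' ≫ inr' = inr ≫ χE' := ps.inr_desc _ _ _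
      have g1 : IsPushout t' s' inl' inr' := by
        have g2 : IsPushout (t ≫ χD') s inl' (inr ≫ χE') := hE.paste_horiz hE0
        rw [← pt.w, ← f2] at g2
        exact g2.of_left f1.symm ps
      refine ⟨_, inl', inr', χE', hE0, ?_, g1⟩
      have h1 : IsPushout χB' (t ≫ inl) (t' ≫ inl') χE' := pt.paste_vert hE0
      rw [← f1, hE.w] at h1
      exact IsPushout.of_top h1 f2 ps
    let d1' : D' ⟶ E' := ps.desc (s' ≫ inl') (d1 ≫ χE') (by
      rw [← Category.assoc, ws, Category.assoc, p1.w, ← Category.assoc, ← e1, Category.assoc])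
    have hd1 : s' ≫ d1' = s' ≫ inl' := ps.inl_desc _ _ _
    have hd1χ : χD' ≫ d1' = d1 ≫ χE' := ps.inr_desc _ _ _
    have hd2 : t' ≫ d1' = t' ≫ inr' := by
      rw [← cancel_epi χB', ← Category.assoc, ← Category.assoc, wt, Category.assoc, Category.assoc,
        hd1χ, p2.w, ← Category.assoc, ← Category.assoc, e2]
    have hkξ : (RingHom.ker ξB.hom) ^ (n + 1) = ⊥ := by
      have h1 : RingHom.ker ξB.hom ≤ I.map χB'.hom := by
        intro x hx
        obtain ⟨y, rfl⟩ := hχB' x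
        refine Ideal.mem_map_of_mem _ ?_
        rw [hI, RingHom.mem_ker]
        have : χB.hom y = ξB.hom (χB'.hom y) := congr($(hξB).hom y).symm
        rw [this]
        exact hx
      rw [eq_bot_iff]
      refine (Ideal.pow_right_mono h1 (n + 1)).trans ?_
      rw [← Ideal.map_pow, Ideal.map_le_iff_le_comap]
      intro x hx
      have : x ∈ RingHom.ker χB'.hom := by rw [hkB']; exact hx
      exact this
    obtain ⟨C', q', ψ', hψ's, hpo', hq', hqq'⟩ := ih hι h0 hξBs hkξ ps₀ pt₀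
      (faithfullyFlat_of_isPushout ps.flip hsf) (Theta.flat_of_isPushout pt.flip htf) p3 hd1 hd2
    obtain ⟨C, q, ψ, hψs, hpo, hq, hqq⟩ := SqZeroQuot.exists_quot_sq hq' hqq' hχB'
      (by rw [hkB']; exact hsq) ps pt hsf.flat htf hsf.injective hE e1 e2
    refine ⟨C, q, ψ ≫ ψ', ?_, ?_, hq, hqq⟩
    · exact hψ's.comp hψs
    · have := hpo.paste_horiz hpo'
      rw [hξB] at this
      exact this

/-- **Lifting of faithfully flat quotients of affine equivalence relations along nilpotent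
thickenings.** -/
theorem exists_quot {C₀ B₀ D₀ B D E : CommRingCat.{u}} {ι₀ : C₀ ⟶ B₀}
    {s₀ t₀ : B₀ ⟶ D₀} {χB : B ⟶ B₀} {χD : D ⟶ D₀} {s t : B ⟶ D} {inl inr d1 : D ⟶ E}
    (hι : ι₀.hom.FaithfullyFlat) (h0 : IsPushout ι₀ ι₀ s₀ t₀)
    (hχ : Surjective χB.hom) (hn : IsNilpotent (RingHom.ker χB.hom))
    (hs : IsPushout χB s s₀ χD) (ht : IsPushout χB t t₀ χD)
    (hsf : s.hom.FaithfullyFlat) (htf : t.hom.Flat)
    (hE : IsPushout t s inl inr) (e1 : s ≫ d1 = s ≫ inl) (e2 : t ≫ d1 = t ≫ inr) :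
    ∃ (C : CommRingCat.{u}) (q : C ⟶ B) (ψ : C ⟶ C₀), Surjective ψ.hom ∧
      IsPushout ψ q ι₀ χB ∧ q.hom.FaithfullyFlat ∧ IsPushout q q s t ∧
      (ι₀.hom.FinitePresentation → q.hom.FinitePresentation) := by
  obtain ⟨n, hn⟩ := hn
  obtain ⟨C, q, ψ, hψs, hpo, hq, hqq⟩ := exists_quot_aux n hι h0 hχ
    (by
      rw [pow_succ, hn]
      exact Ideal.bot_mul _) hs ht hsf htf hE e1 e2
  refine ⟨C, q, ψ, hψs, hpo, hq, hqq, fun hfp => ?_⟩
  have hker : RingHom.ker χB.hom = (RingHom.ker ψ.hom).map q.hom :=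
    Flat2D.NilpFlat2.ker_of_isPushout hpo hψs
  have hnil : IsNilpotent (RingHom.ker ψ.hom) := by
    refine ⟨n, ?_⟩
    rw [Ideal.zero_eq_bot, eq_bot_iff]
    intro x hx
    have h1 : q.hom x ∈ (RingHom.ker χB.hom) ^ n := by
      rw [hker, ← Ideal.map_pow]
      exact Ideal.mem_map_of_mem _ hx
    rw [hn] at h1
    exact hq.injective (by rw [map_zero]; exact h1)
  refine Flat2D.NilpAlg.finitePresentation_of_nilpotent ψ.hom ψ.hom χB.hom (RingHom.id C) q.hom
    ι₀.hom hψs hχ hnil (Ideal.map_id _).symm ?_ ?_ ?_ hfp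
  · rw [RingHom.comp_id]
    exact hker
  · rw [← CommRingCat.hom_comp, ← CommRingCat.hom_comp, hpo.w]
  · rw [RingHom.comp_id]
    exact hq.flat

end Groth.Agent.Sga3.H823.NilQuot
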