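import Groth.Agent.Sga3C.QuotRel
import Groth.Agent.Sga3C.QuotBase
import Mathlib.AlgebraicGeometry.Morphisms.Flat
import Mathlib.AlgebraicGeometry.Morphisms.FinitePresentation

/-!
# The restriction of an equivalence relation along a morphism
-/

set_option autoImplicit false

universe u

open CategoryTheory Limits AlgebraicGeometry

namespace Groth.Agent.Sga3.H823.RelPull

open Groth.Agent.Sga3C.QuotRel

variable {R U W : Scheme.{u}} (t s : R ⟶ U) (f : W ⟶ U)

/-- The restriction of the relation `R` along `f`: triples `(a, r, b)` with `f a = t r`, `s r = f b`. -/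
noncomputable abbrev RW : Scheme.{u} := pullback (pullback.snd f t ≫ s) f

/-- the first point. -/
noncomputable def tW : RW t s f ⟶ W := pullback.fst (pullback.snd f t ≫ s) f ≫ pullback.fst f t

/-- the second point. -/
noncomputable def sW : RW t s f ⟶ W := pullback.snd (pullback.snd f t ≫ s) f

/-- the underlying point of `R`. -/
noncomputable def ρ : RW t s f ⟶ R := pullback.fst (pullback.snd f t ≫ s) f ≫ pullback.snd f t

theorem ρ_t : ρ t s f ≫ t = tW t s f ≫ f := by
  rw [ρ, tW, Category.assoc, Category.assoc, pullback.condition]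

theorem ρ_s : ρ t s f ≫ s = sW t s f ≫ f := by
  rw [ρ, sW, Category.assoc, pullback.condition]

instance [Flat s] [Flat f] : Flat (sW t s f) :=
  inferInstanceAs (Flat (pullback.snd (pullback.snd f t ≫ s) f))

instance [Flat t] [Flat f] : Flat (tW t s f) :=
  inferInstanceAs (Flat (pullback.fst (pullback.snd f t ≫ s) f ≫ pullback.fst f t))

variable {t s}

theorem rel_iff {T : Scheme.{u}} (a b : T ⟶ W) :
    Rel (tW t s f) (sW t s f) a b ↔ Rel t s (a ≫ f) (b ≫ f) := by
  constructor
  · rintro ⟨r, rfl, rfl⟩
    exact ⟨r ≫ ρ t s f, by rw [Category.assoc, ρ_t, Category.assoc],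
      by rw [Category.assoc, ρ_s, Category.assoc]⟩
  · rintro ⟨r, h1, h2⟩
    refine ⟨pullback.lift (pullback.lift a r h1.symm) b ?_, ?_, ?_⟩
    · rw [pullback.lift_snd_assoc, h2]
    · rw [tW, pullback.lift_fst_assoc, pullback.lift_fst]
    · rw [sW, pullback.lift_snd]

theorem isERel (hR : IsERel t s) : IsERel (tW t s f) (sW t s f) where
  mono := by
    intro T x y h1 h2
    have h3 : x ≫ ρ t s f = y ≫ ρ t s f := by
      apply hR.mono
      · rw [Category.assoc, Category.assoc, ρ_t, ← Category.assoc, ← Category.assoc, h1]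
      · rw [Category.assoc, Category.assoc, ρ_s, ← Category.assoc, ← Category.assoc, h2]
    refine pullback.hom_ext (pullback.hom_ext ?_ ?_) ?_
    · simpa only [tW, Category.assoc] using h1
    · simpa only [ρ, Category.assoc] using h3
    · exact h2
  refl := fun a => (rel_iff f a a).2 (hR.refl _)
  symm := fun {T a b} h => (rel_iff f b a).2 (hR.symm ((rel_iff f a b).1 h))
  trans := fun {T a b c} h h' =>
    (rel_iff f a c).2 (hR.trans ((rel_iff f a b).1 h) ((rel_iff f b c).1 h'))

theorem surjective_sW (hR : IsERel t s) : Surjective (sW t s f) := by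
  obtain ⟨e, -, he⟩ := (isERel f hR).refl (𝟙 W)
  exact ⟨fun w => ⟨e w, by rw [← Scheme.Hom.comp_apply, he]; rfl⟩⟩

/-- The two definitions of equivalence relations. -/
theorem isEqRel (hR : IsERel t s) : Groth.Agent.Sga3C.QuotBase.IsEqRel t s where
  hom_ext := hR.mono
  refl := hR.refl
  symm := hR.symm
  trans := hR.trans

end Groth.Agent.Sga3.H823.RelPull
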