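import Groth.Agent.Sga3.H823.Theta
import Groth.Agent.Sga3C.QuotNilMain

/-!
# Lifting faithfully flat quotients of affine equivalence relations along square-zero thickenings
-/

set_option autoImplicit false
set_option linter.style.haveILetI false

universe u

open TensorProduct Function CategoryTheory Limits

namespace Groth.Agent.Sga3.H823.SqZero

open Abstract

/-- The descent statement for the square-zero ideal. The kernel `K` of `t - s` on the ideal
`I = ker χB`. -/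
theorem core {C₀ B₀ D₀ B D E : CommRingCat.{u}} {ι₀ : C₀ ⟶ B₀} {s₀ t₀ : B₀ ⟶ D₀}
    {χB : B ⟶ B₀} {χD : D ⟶ D₀} {s t : B ⟶ D} {inl inr d1 : D ⟶ E}
    (hι : ι₀.hom.FaithfullyFlat) (h0 : IsPushout ι₀ ι₀ s₀ t₀)
    (hχ : Surjective χB.hom) (hsq : (RingHom.ker χB.hom) ^ 2 = ⊥)
    (hs : IsPushout χB s s₀ χD) (ht : IsPushout χB t t₀ χD)
    (htf : t.hom.Flat) (hsi : Injective s.hom)
    (hE : IsPushout t s inl inr) (e1 : s ≫ d1 = s ≫ inl) (e2 : t ≫ d1 = t ≫ inr) :
    (∀ d : D, χD.hom d = 0 → inr.hom d - d1.hom d + inl.hom d = 0 →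
      ∃ x, χB.hom x = 0 ∧ t.hom x - s.hom x = d) ∧
    (letI : Algebra C₀ B₀ := ι₀.hom.toAlgebra
      ∃ (_ : Module C₀ (RingHom.ker χB.hom)) (_ : Module B₀ (RingHom.ker χB.hom))
      (K : Submodule C₀ (RingHom.ker χB.hom))
      (_ : IsScalarTower C₀ B₀ (RingHom.ker χB.hom)),
      (∀ (b : B) (x : RingHom.ker χB.hom), χB.hom b • x = b • x) ∧
      (∀ (b : B) (c : C₀) (x : RingHom.ker χB.hom), χB.hom b = ι₀.hom c → c • x = b • x) ∧
      (∀ x : RingHom.ker χB.hom, x ∈ K ↔ s.hom x = t.hom x) ∧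
      Bijective (K.subtype.liftBaseChange B₀ : B₀ ⊗[C₀] K →ₗ[B₀] (RingHom.ker χB.hom))) := by
  obtain ⟨E₀, inl₀, inr₀, χE, p1, p2, p3, p4⟩ := Theta.exists_degree_two h0 hs ht hE
  have hχD : Surjective χD.hom := Flat2D.NilpFlat2.surjective_of_isPushout hs hχ
  have hkerD : RingHom.ker χD.hom = (RingHom.ker χB.hom).map t.hom :=
    Flat2D.NilpFlat2.ker_of_isPushout ht hχ
  have hsqD : (RingHom.ker χD.hom) ^ 2 = ⊥ := by
    rw [hkerD, ← Ideal.map_pow, hsq, Ideal.map_bot]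
  have hstχ : ∀ x, χD.hom (s.hom x) = s₀.hom (χB.hom x) := fun x => congr($(hs.w).hom x).symm
  have httχ : ∀ x, χD.hom (t.hom x) = t₀.hom (χB.hom x) := fun x => congr($(ht.w).hom x).symm
  have h0w : ∀ c, s₀.hom (ι₀.hom c) = t₀.hom (ι₀.hom c) := fun c => congr($(h0.w).hom c)
  have he1 : ∀ x, d1.hom (s.hom x) = inl.hom (s.hom x) := fun x => congr($(e1).hom x)
  have he2 : ∀ x, d1.hom (t.hom x) = inr.hom (t.hom x) := fun x => congr($(e2).hom x)
  have he3 : ∀ x, inl.hom (t.hom x) = inr.hom (s.hom x) := fun x => congr($(hE.w).hom x)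
  set I : Ideal B := RingHom.ker χB.hom with hIdef
  set N : Ideal D := RingHom.ker χD.hom with hNdef
  have hI : ∀ a, χB.hom a = 0 → ∀ x : I, a • x = 0 := by
    intro a ha x
    have h1 : a * (x : B) ∈ I ^ 2 := by
      rw [pow_two]
      exact Ideal.mul_mem_mul ha x.2
    rw [hsq] at h1
    exact Subtype.ext h1
  have hN : ∀ a, χD.hom a = 0 → ∀ x : N, a • x = 0 := by
    intro a ha x
    have h1 : a * (x : D) ∈ N ^ 2 := by
      rw [pow_two]
      exact Ideal.mul_mem_mul ha x.2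
    rw [hsqD] at h1
    exact Subtype.ext h1
  letI a1 : Algebra C₀ B₀ := ι₀.hom.toAlgebra
  letI m1 : Module B₀ I := moduleOfSurjective χB.hom hχ hI
  have m1' : ∀ (b : B) (x : I), χB.hom b • x = b • x := moduleOfSurjective_smul χB.hom hχ hI
  letI m2 : Module C₀ I := Module.compHom I ι₀.hom
  have m2' : ∀ (b : B) (c : C₀) (x : I), χB.hom b = ι₀.hom c → c • x = b • x := by
    intro b c x h
    change ι₀.hom c • x = b • x
    rw [← h, m1']
  have m3 : IsScalarTower C₀ B₀ I := ⟨fun c b x => by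
    change (ι₀.hom c * b) • x = ι₀.hom c • (b • x)
    rw [mul_smul]⟩
  letI n1 : Module D₀ N := moduleOfSurjective χD.hom hχD hN
  have n1' : ∀ (b : D) (x : N), χD.hom b • x = b • x := moduleOfSurjective_smul χD.hom hχD hN
  letI n2 : Module C₀ N := Module.compHom N (ι₀ ≫ s₀).hom
  have n2' : ∀ (b : D) (c : C₀) (x : N), χD.hom b = (ι₀ ≫ s₀).hom c → c • x = b • x := by
    intro b c x h
    change (ι₀ ≫ s₀).hom c • x = b • x
    rw [← h, n1']
  -- `α`
  have hsN : ∀ x ∈ I, s.hom x ∈ N := fun x hx => by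
    rw [hNdef, RingHom.mem_ker, hstχ, RingHom.mem_ker.1 hx, map_zero]
  have htN : ∀ x ∈ I, t.hom x ∈ N := fun x hx => by
    rw [hNdef, RingHom.mem_ker, httχ, RingHom.mem_ker.1 hx, map_zero]
  let α : I →ₗ[C₀] N :=
    { toFun := fun x => ⟨t.hom x - s.hom x, N.sub_mem (htN _ x.2) (hsN _ x.2)⟩
      map_add' := fun a b => Subtype.ext (by
        change t.hom ((a : B) + b) - s.hom ((a : B) + b) = (t.hom a - s.hom a) + (t.hom b - s.hom b)
        simp only [map_add]; ring)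
      map_smul' := fun c x => by
        obtain ⟨b, hb⟩ := hχ (ι₀.hom c)
        rw [m2' b c x hb]
        have k1 : (c • (⟨t.hom x, htN _ x.2⟩ : N) : N) = t.hom b • (⟨t.hom x, htN _ x.2⟩ : N) := by
          apply n2'
          rw [httχ, hb, ← h0w]
          rfl
        have k2 : (c • (⟨s.hom x, hsN _ x.2⟩ : N) : N) = s.hom b • (⟨s.hom x, hsN _ x.2⟩ : N) := by
          apply n2'
          rw [hstχ, hb]
          rfl
        have k3 : (⟨t.hom x - s.hom x, N.sub_mem (htN _ x.2) (hsN _ x.2)⟩ : N) =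
          ⟨t.hom x, htN _ x.2⟩ - ⟨s.hom x, hsN _ x.2⟩ := rfl
        rw [k3, RingHom.id_apply, smul_sub, k1, k2]
        apply Subtype.ext
        change t.hom (b * x) - s.hom (b * x) = t.hom b * t.hom x - s.hom b * s.hom x
        rw [map_mul, map_mul] }
  have hα : ∀ x, (α x : D) = t.hom x - s.hom x := fun x => rfl
  -- `θ₁`
  obtain ⟨Θ₁, hΘ₁i, hΘ₁, hΘ₁r⟩ := Theta.exists_theta ht h0 hχ htf I hI m2'
  rw [← hkerD] at hΘ₁r
  let θ₁ : B₀ ⊗[C₀] I →+ N := Θ₁.codRestrict N (fun x => (hΘ₁r _).2 ⟨x, rfl⟩)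
  have hθ₁ : ∀ x, (θ₁ x : D) = Θ₁ x := fun x => rfl
  have hθ₁b : Bijective θ₁ := by
    constructor
    · intro x y hxy
      apply hΘ₁i
      rw [← hθ₁, ← hθ₁, hxy]
    · intro z
      obtain ⟨x, hx⟩ := (hΘ₁r z).1 z.2
      exact ⟨x, Subtype.ext hx⟩
  -- `θ₂`
  have hinr : inr.hom.Flat := Theta.flat_of_isPushout hE htf
  obtain ⟨Θ₂, hΘ₂i, hΘ₂, -⟩ := Theta.exists_theta p2 p4 hχD hinr N hN n2'
  let δ : N →+ E :=
    { toFun := fun z => d1.hom z - inl.hom z
      map_zero' := by simp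
      map_add' := fun x y => by
        change d1.hom ((x : D) + y) - inl.hom ((x : D) + y) =
          (d1.hom x - inl.hom x) + (d1.hom y - inl.hom y)
        simp only [map_add]; ring }
  have hδ : ∀ z, δ z = d1.hom z - inl.hom z := fun z => rfl
  have key : ∀ x, δ (θ₁ x) = Θ₂ (α.lTensor B₀ x) := by
    intro x
    induction x using TensorProduct.induction_on with
    | zero => simp
    | add x y hx hy => simp only [map_add, hx, hy]
    | tmul b x =>
      obtain ⟨b, rfl⟩ := hχ b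
      rw [LinearMap.lTensor_tmul, hδ, hθ₁, hΘ₁ (s.hom b) _ _ (hstχ b),
        hΘ₂ (inl.hom (s.hom b)) (χB.hom b) (α x), hα]
      · rw [map_mul, map_mul, he1, he2, he3, map_sub]
        ring
      · have : χE.hom (inl.hom (s.hom b)) = inl₀.hom (χD.hom (s.hom b)) :=
          congr($(p1.w).hom (s.hom b)).symm
        rw [this, hstχ]
        rfl
  have hff : Module.FaithfullyFlat C₀ B₀ := hι
  refine ⟨?_, m2, m1, LinearMap.ker α, m3, m1', m2', ?_, ?_⟩
  · intro d hd hcoc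
    obtain ⟨x, hx⟩ := mem_range_of_cocycle α θ₁ hθ₁b.2 Θ₂ hΘ₂i δ key (⟨d, hd⟩ : N) (by
      rw [hδ, hΘ₂ 1 1 ⟨d, hd⟩ (by rw [map_one, map_one]), one_mul]
      change d1.hom d - inl.hom d = inr.hom d
      linear_combination -hcoc)
    exact ⟨x, x.2, congrArg Subtype.val hx⟩
  · intro x
    rw [LinearMap.mem_ker, ← Subtype.coe_inj, hα]
    change t.hom x - s.hom x = 0 ↔ _
    rw [sub_eq_zero, eq_comm]
  · let σ : I →+ N :=
      { toFun := fun x => ⟨s.hom x, hsN _ x.2⟩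
        map_zero' := Subtype.ext (map_zero _)
        map_add' := fun x y => Subtype.ext (map_add _ _ _) }
    refine bijective_kerTensor α θ₁ hθ₁b Θ₂ hΘ₂i δ key σ ?_ ?_ ?_
    · intro x y hxy
      exact Subtype.ext (hsi (congrArg Subtype.val hxy))
    · intro m
      change d1.hom (s.hom m) - inl.hom (s.hom m) = 0
      rw [he1, sub_self]
    · intro b k
      obtain ⟨b, rfl⟩ := hχ b
      have hk : t.hom (k.1 : B) - s.hom (k.1 : B) = 0 := by
        have := k.2
        rw [LinearMap.mem_ker] at this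
        exact congrArg Subtype.val this
      apply Subtype.ext
      rw [hθ₁, hΘ₁ (s.hom b) _ _ (hstχ b), m1']
      change _ = s.hom (b * (k.1 : B))
      rw [map_mul, sub_eq_zero.1 hk]

end Groth.Agent.Sga3.H823.SqZero
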