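import Groth.Agent.Sga3.H823.SqZero

/-!
# Lifting faithfully flat quotients of affine equivalence relations along square-zero thickenings
-/

set_option autoImplicit false
set_option linter.style.haveILetI false

universe u

open TensorProduct Function CategoryTheory Limits

namespace Groth.Agent.Sga3.H823.SqZeroQuot

open Abstract

/-- The square-zero case. -/
theorem exists_quot_sq {C₀ B₀ D₀ B D E : CommRingCat.{u}} {ι₀ : C₀ ⟶ B₀} {s₀ t₀ : B₀ ⟶ D₀}
    {χB : B ⟶ B₀} {χD : D ⟶ D₀} {s t : B ⟶ D} {inl inr d1 : D ⟶ E}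
    (hι : ι₀.hom.FaithfullyFlat) (h0 : IsPushout ι₀ ι₀ s₀ t₀)
    (hχ : Surjective χB.hom) (hsq : (RingHom.ker χB.hom) ^ 2 = ⊥)
    (hs : IsPushout χB s s₀ χD) (ht : IsPushout χB t t₀ χD)
    (hsf : s.hom.Flat) (htf : t.hom.Flat) (hsi : Injective s.hom)
    (hE : IsPushout t s inl inr) (e1 : s ≫ d1 = s ≫ inl) (e2 : t ≫ d1 = t ≫ inr) :
    ∃ (C : CommRingCat.{u}) (q : C ⟶ B) (ψ : C ⟶ C₀), Surjective ψ.hom ∧
      IsPushout ψ q ι₀ χB ∧ q.hom.FaithfullyFlat ∧ IsPushout q q s t := by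
  letI a1 : Algebra C₀ B₀ := ι₀.hom.toAlgebra
  have ha : ∀ c, algebraMap C₀ B₀ c = ι₀.hom c := fun _ => rfl
  obtain ⟨hF1, m2, m1, K, m3, hm1, hm2, hK, hbij⟩ :=
    SqZero.core hι h0 hχ hsq hs ht htf hsi hE e1 e2
  have hstχ : ∀ x, χD.hom (s.hom x) = s₀.hom (χB.hom x) := fun x => congr($(hs.w).hom x).symm
  have httχ : ∀ x, χD.hom (t.hom x) = t₀.hom (χB.hom x) := fun x => congr($(ht.w).hom x).symm
  have h0w : ∀ c, s₀.hom (ι₀.hom c) = t₀.hom (ι₀.hom c) := fun c => congr($(h0.w).hom c)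
  have he1 : ∀ x, d1.hom (s.hom x) = inl.hom (s.hom x) := fun x => congr($(e1).hom x)
  have he2 : ∀ x, d1.hom (t.hom x) = inr.hom (t.hom x) := fun x => congr($(e2).hom x)
  have he3 : ∀ x, inl.hom (t.hom x) = inr.hom (s.hom x) := fun x => congr($(hE.w).hom x)
  -- the equalizer
  let C' : Subring B := RingHom.eqLocus s.hom t.hom
  let C : CommRingCat.{u} := CommRingCat.of C'
  let q : C ⟶ B := CommRingCat.ofHom C'.subtype
  have hqs : ∀ b : C, s.hom (q.hom b) = t.hom (q.hom b) := fun b => b.2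
  have hqst : q ≫ s = q ≫ t := by ext b; exact hqs b
  have hιinj : Function.Injective ι₀.hom := hι.injective
  have hrange : ∀ b : C, χB.hom (q.hom b) ∈ ι₀.hom.range := by
    intro b
    obtain ⟨y, hy⟩ := Sga3C.QuotNilRing.exists_of_eq hι h0 (χB.hom (q.hom b)) (by
      rw [← hstχ, ← httχ, hqs])
    exact ⟨y, hy⟩
  let ρ : C₀ ≃+* ι₀.hom.range := RingEquiv.ofBijective ι₀.hom.rangeRestrict
    ⟨fun x y h => hιinj (congrArg Subtype.val h), ι₀.hom.rangeRestrict_surjective⟩
  let ψ : C ⟶ C₀ := CommRingCat.ofHom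
    (ρ.symm.toRingHom.comp ((χB.hom.comp q.hom).codRestrict ι₀.hom.range hrange))
  have hψ : ∀ b, ι₀.hom (ψ.hom b) = χB.hom (q.hom b) := by
    intro b
    change ((ρ (ρ.symm _)) : B₀) = _
    rw [RingEquiv.apply_symm_apply]
    rfl
  have hψ' : ψ ≫ ι₀ = q ≫ χB := by ext b; exact hψ b
  -- surjectivity of `C → C₀`
  have hψs : Surjective ψ.hom := by
    intro c
    obtain ⟨b, hb⟩ := hχ (ι₀.hom c)
    obtain ⟨x, hx, hx'⟩ := hF1 (t.hom b - s.hom b)
      (by rw [map_sub, hstχ, httχ, hb, h0w, sub_self])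
      (by simp only [map_sub, he1, he2, he3]; ring)
    have hmem : s.hom (b - x) = t.hom (b - x) := by
      rw [map_sub, map_sub]
      linear_combination hx'
    refine ⟨⟨b - x, hmem⟩, hιinj ?_⟩
    rw [hψ]
    change χB.hom (b - x) = _
    rw [map_sub, hb, hx, sub_zero]
  -- the kernel of `C → C₀`
  have hker : ∀ c : C, ψ.hom c = 0 ↔ χB.hom (q.hom c) = 0 := by
    intro c
    rw [← hψ, map_eq_zero_iff _ hιinj]
  set J : Ideal C := RingHom.ker ψ.hom with hJ
  let j : K → J := fun k => ⟨⟨(k : RingHom.ker χB.hom), (hK _).1 k.2⟩, by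
    rw [hJ, RingHom.mem_ker, hker]
    exact k.1.2⟩
  have hj : ∀ k, q.hom (j k) = ((k : RingHom.ker χB.hom) : B) := fun k => rfl
  let μ : B₀ ⊗[C₀] K →ₗ[B₀] (RingHom.ker χB.hom) := K.subtype.liftBaseChange B₀
  have hμ : ∀ (b : B) (k : K), μ (χB.hom b ⊗ₜ k) = b • (k : RingHom.ker χB.hom) := by
    intro b k
    rw [← hm1]
    exact LinearMap.liftBaseChange_tmul _ _ _ _
  have hkerle : RingHom.ker χB.hom ≤ (RingHom.ker ψ.hom).map q.hom := by
    intro x hx
    obtain ⟨y, hy⟩ := hbij.2 (⟨x, hx⟩ : RingHom.ker χB.hom)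
    have hx' : x = ((μ y : RingHom.ker χB.hom) : B) := congrArg Subtype.val hy.symm
    rw [hx']
    clear hy hx'
    induction y using TensorProduct.induction_on with
    | zero => rw [map_zero]; exact Ideal.zero_mem _
    | add x y hx hy => rw [map_add]; exact Ideal.add_mem _ hx hy
    | tmul b k =>
      obtain ⟨b, rfl⟩ := hχ b
      rw [hμ]
      exact Ideal.mul_mem_left _ _ (Ideal.mem_map_of_mem q.hom (j k).2)
  have hpo : IsPushout ψ q ι₀ χB := Sga3C.QuotNilMain.isPushout_of_surjective hψ' hψs hχ hkerle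
  -- products
  have hmul0 : ∀ x y : B, χB.hom x = 0 → χB.hom y = 0 → x * y = 0 := by
    intro x y hx hy
    have h1 : x * y ∈ (RingHom.ker χB.hom) ^ 2 := by
      rw [pow_two]
      exact Ideal.mul_mem_mul hx hy
    rw [hsq] at h1
    exact h1
  have hJnil : IsNilpotent J := by
    refine ⟨2, ?_⟩
    rw [pow_two, Ideal.zero_eq_bot, eq_bot_iff, Ideal.mul_le]
    intro x hx y hy
    exact Subtype.ext (hmul0 x y ((hker x).1 hx) ((hker y).1 hy))
  -- flatness
  let _ : Algebra C B := q.hom.toAlgebra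
  have hsmul : ∀ (c : C) (b : B), c • b = q.hom c * b := fun c b => rfl
  -- tensoring with elements of `J`
  have ht1 : ∀ (x : J) (b : B), χB.hom b = 0 → x ⊗ₜ[C] b = 0 := by
    intro x b hb
    have hb' := hkerle hb
    rw [Ideal.map, ← Ideal.submodule_span_eq] at hb'
    clear hb
    induction hb' using Submodule.span_induction with
    | mem b hb =>
      obtain ⟨c, hc, rfl⟩ := hb
      have h1 : q.hom c = c • (1 : B) := by rw [hsmul, mul_one]
      rw [h1, ← TensorProduct.smul_tmul]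
      have h2 : c • x = 0 := Subtype.ext (Subtype.ext
        (hmul0 _ _ ((hker c).1 hc) ((hker x.1).1 x.2)))
      rw [h2, TensorProduct.zero_tmul]
    | zero => rw [TensorProduct.tmul_zero]
    | add a b _ _ ha hb => rw [TensorProduct.tmul_add, ha, hb, add_zero]
    | smul a b _ hb =>
      have h1 : x ⊗ₜ[C] (a • b) = (LinearMap.mulLeft C a).lTensor J (x ⊗ₜ[C] b) := by
        rw [LinearMap.lTensor_tmul]
        rfl
      rw [h1, hb, map_zero]
  have ht2 : ∀ (x : J) (b b' : B), χB.hom b = χB.hom b' → x ⊗ₜ[C] b = x ⊗ₜ[C] b' := by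
    intro x b b' h
    rw [← sub_eq_zero, ← TensorProduct.tmul_sub]
    exact ht1 x _ (by rw [map_sub, h, sub_self])
  let lam : B₀ →+ K →+ J ⊗[C] B :=
    { toFun := fun b =>
        { toFun := fun k => j k ⊗ₜ[C] surjInv hχ b
          map_zero' := by
            have : j 0 = 0 := rfl
            rw [this, TensorProduct.zero_tmul]
          map_add' := fun k k' => by
            have : j (k + k') = j k + j k' := rfl
            rw [this, TensorProduct.add_tmul] }
      map_zero' := by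
        ext k
        change j k ⊗ₜ[C] surjInv hχ 0 = 0
        exact ht1 _ _ (surjInv_eq hχ 0)
      map_add' := fun b b' => by
        ext k
        change j k ⊗ₜ[C] surjInv hχ (b + b') = j k ⊗ₜ[C] surjInv hχ b + j k ⊗ₜ[C] surjInv hχ b'
        rw [← TensorProduct.tmul_add]
        exact ht2 _ _ _ (by rw [map_add, surjInv_eq hχ, surjInv_eq hχ, surjInv_eq hχ]) }
  have hlam : ∀ (b : B) (k : K), lam (χB.hom b) k = j k ⊗ₜ[C] b := fun b k =>
    ht2 _ _ _ (surjInv_eq hχ _)
  let Lam : B₀ ⊗[C₀] K →+ J ⊗[C] B := TensorProduct.liftAddHom lam (by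
    intro c b k
    obtain ⟨c, rfl⟩ := hψs c
    obtain ⟨b, rfl⟩ := hχ b
    have h1 : ψ.hom c • χB.hom b = χB.hom (q.hom c * b) := by
      rw [Algebra.smul_def, ha, hψ, map_mul]
    have h2 : j (ψ.hom c • k) = c • j k := by
      apply Subtype.ext
      apply Subtype.ext
      change ((ψ.hom c • (k : RingHom.ker χB.hom) : RingHom.ker χB.hom) : B) =
        (q.hom c) * ((k : RingHom.ker χB.hom) : B)
      rw [hm2 (q.hom c) (ψ.hom c) k (hψ c).symm]
      rfl
    rw [h1, hlam, hlam, h2, TensorProduct.smul_tmul, hsmul])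
  have hLam : ∀ (b : B) (k : K), Lam (χB.hom b ⊗ₜ k) = j k ⊗ₜ[C] b := fun b k => hlam b k
  have hjs : ∀ x : J, ∃ k, j k = x := by
    intro x
    refine ⟨⟨⟨q.hom x, (hker x.1).1 x.2⟩, (hK _).2 (hqs x)⟩, rfl⟩
  have hinj : Injective (J.subtype.rTensor B) := by
    rw [injective_iff_map_eq_zero]
    intro z hz
    have key : ∀ z : J ⊗[C] B, ∃ y : B₀ ⊗[C₀] K, Lam y = z ∧
        ((μ y : RingHom.ker χB.hom) : B) = TensorProduct.lid C B (J.subtype.rTensor B z) := by
      intro z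
      induction z using TensorProduct.induction_on with
      | zero => exact ⟨0, map_zero _, by simp⟩
      | add x y hx hy =>
        obtain ⟨x', hx1, hx2⟩ := hx
        obtain ⟨y', hy1, hy2⟩ := hy
        refine ⟨x' + y', by rw [map_add, hx1, hy1], ?_⟩
        rw [map_add, map_add, map_add, ← hx2, ← hy2]
        rfl
      | tmul x b =>
        obtain ⟨k, rfl⟩ := hjs x
        refine ⟨χB.hom b ⊗ₜ k, hLam b k, ?_⟩
        rw [hμ, LinearMap.rTensor_tmul, TensorProduct.lid_tmul]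
        change b * ((k : RingHom.ker χB.hom) : B) = q.hom (j k) * b
        rw [hj, mul_comm]
    obtain ⟨y, hy1, hy2⟩ := key z
    rw [hz, map_zero] at hy2
    have hy3 : y = 0 := hbij.1 (by
      rw [map_zero]
      exact Subtype.ext hy2)
    rw [← hy1, hy3, map_zero]
  have hflat : Module.Flat C B := by
    let _ : Algebra C C₀ := ψ.hom.toAlgebra
    let _ : Algebra B B₀ := χB.hom.toAlgebra
    let _ : Algebra C B₀ := (ψ ≫ ι₀).hom.toAlgebra
    have e1 : IsScalarTower C C₀ B₀ := IsScalarTower.of_algebraMap_eq fun x => (ha _).symm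
    have e2 : IsScalarTower C B B₀ := IsScalarTower.of_algebraMap_eq fun x =>
      congr($(hpo.w).hom x)
    have e3 : Algebra.IsPushout C C₀ B B₀ := CommRingCat.isPushout_iff_isPushout.1 hpo
    have hfl0 : Module.Flat C₀ B₀ := hι.flat
    have : Module.Flat C₀ (C₀ ⊗[C] B) :=
      Module.Flat.of_linearEquiv (Algebra.IsPushout.equiv C C₀ B B₀).toLinearEquiv
    let e : (C ⧸ J) ≃+* C₀ := RingHom.quotientKerEquivOfSurjective hψs
    letI : Algebra C₀ (C ⧸ J) := e.symm.toRingHom.toAlgebra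
    have : IsScalarTower C C₀ (C ⧸ J) := by
      refine IsScalarTower.of_algebraMap_eq fun s => ?_
      change _ = e.symm (ψ.hom s)
      rw [RingEquiv.eq_symm_apply]
      rfl
    have : Module.Flat (C ⧸ J) ((C ⧸ J) ⊗[C] B) := by
      have : Module.Flat (C ⧸ J) ((C ⧸ J) ⊗[C₀] (C₀ ⊗[C] B)) := inferInstance
      exact Module.Flat.of_linearEquiv
        (TensorProduct.AlgebraTensorModule.cancelBaseChange C C₀ (C ⧸ J) (C ⧸ J) B).symm
    exact Flat2D.NilpFlat.flat_of_isNilpotent J hJnil hinj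
  refine ⟨C, q, ψ, hψs, hpo, ?_, ?_⟩
  · rw [RingHom.FaithfullyFlat.iff_flat_and_comap_surjective]
    refine ⟨hflat, ?_⟩
    intro p
    have hle : RingHom.ker ψ.hom ≤ p.asIdeal := by
      obtain ⟨n, hn⟩ := hJnil
      intro x hx
      have hx' : x ^ n ∈ J ^ n := Ideal.pow_mem_pow hx n
      rw [hn] at hx'
      exact p.2.mem_of_pow_mem n (by rw [show x ^ n = 0 from hx']; exact p.asIdeal.zero_mem)
    obtain ⟨p0, hp0⟩ : p ∈ Set.range (PrimeSpectrum.comap ψ.hom) := by
      rw [_root_.range_comap_of_surjective _ _ hψs]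
      exact hle
    obtain ⟨y0, hy0⟩ := (RingHom.FaithfullyFlat.iff_flat_and_comap_surjective.mp hι).2 p0
    refine ⟨PrimeSpectrum.comap χB.hom y0, ?_⟩
    rw [← hp0, ← hy0]
    have h1 : PrimeSpectrum.comap q.hom (PrimeSpectrum.comap χB.hom y0) =
        PrimeSpectrum.comap (χB.hom.comp q.hom) y0 := rfl
    have h2 : PrimeSpectrum.comap ψ.hom (PrimeSpectrum.comap ι₀.hom y0) =
        PrimeSpectrum.comap (ι₀.hom.comp ψ.hom) y0 := rfl
    rw [h1, h2, ← CommRingCat.hom_comp, ← CommRingCat.hom_comp, hψ']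
  · -- the pushout `B ⊗_C B`
    let i1 := pushout.inl q q
    let i2 := pushout.inr q q
    have hP : IsPushout q q i1 i2 := IsPushout.of_hasPushout _ _
    let f : pushout q q ⟶ D := hP.desc s t hqst
    have hf1 : i1 ≫ f = s := hP.inl_desc _ _ _
    have hf2 : i2 ≫ f = t := hP.inr_desc _ _ _
    have hbig : IsPushout (q ≫ χB) q s₀ (χB ≫ t₀) := by
      rw [← hψ']
      exact hpo.paste_horiz h0
    have hb1 : IsPushout χB i1 s₀ (f ≫ χD) := by
      have h3 : i2 ≫ (f ≫ χD) = χB ≫ t₀ := by rw [← Category.assoc, hf2, ht.w]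
      have h4 : χB ≫ s₀ = i1 ≫ (f ≫ χD) := by rw [← Category.assoc, hf1, hs.w]
      refine IsPushout.of_left (h₁₁ := q) (v₁₁ := q) (h₂₁ := i2) ?_ h4 hP
      rw [h3]
      exact hbig
    have hbij : Function.Bijective f.hom := by
      refine Flat2D.NilpAlg.bijective_of_nilpotent χB.hom (f ≫ χD).hom χD.hom i1.hom f.hom
        (RingHom.id D₀) (Flat2D.NilpFlat2.surjective_of_isPushout hb1 hχ) ⟨2, hsq⟩
        (Flat2D.NilpFlat2.ker_of_isPushout hb1 hχ) ?_ rfl ?_ Function.bijective_id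
      · rw [← CommRingCat.hom_comp, hf1]
        exact Flat2D.NilpFlat2.ker_of_isPushout hs hχ
      · rw [← CommRingCat.hom_comp, hf1]
        exact hsf
    have : IsIso f := (ConcreteCategory.isIso_iff_bijective f).mpr hbij
    refine hP.of_iso (Iso.refl _) (Iso.refl _) (Iso.refl _) (asIso f) (by simp) (by simp) ?_ ?_
    · simp [hf1]
    · simp [hf2]

end Groth.Agent.Sga3.H823.SqZeroQuot
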