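import Groth.Agent.Sga3.H823.Abstract
import Mathlib.Algebra.Category.Ring.Constructions
import Mathlib.RingTheory.RingHom.FaithfullyFlat

/-!
# `exists_theta` in terms of pushout squares of rings
-/

set_option autoImplicit false
set_option linter.style.haveILetI false

universe u

open TensorProduct Function CategoryTheory Limits

namespace Groth.Agent.Sga3.H823.Theta

open Abstract

/-- `exists_theta` for pushout squares. -/
theorem exists_theta {C₀ B' A₀ F₀ A F : CommRingCat.{u}} {c' : C₀ ⟶ B'} {c : C₀ ⟶ A₀}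
    {g₀ : B' ⟶ F₀} {f₀ : A₀ ⟶ F₀} {χA : A ⟶ A₀} {f : A ⟶ F} {χF : F ⟶ F₀}
    (h : IsPushout χA f f₀ χF) (h0 : IsPushout c' c g₀ f₀) (hχ : Surjective χA.hom)
    (hf : f.hom.Flat) (I : Ideal A) (hI : ∀ a, χA.hom a = 0 → ∀ x : I, a • x = 0) [Module C₀ I]
    (hm : ∀ (a : A) (c₀ : C₀) (x : I), χA.hom a = c.hom c₀ → c₀ • x = a • x) :
    letI := c'.hom.toAlgebra
    ∃ Θ : B' ⊗[C₀] I →+ F, Injective Θ ∧
      (∀ (φ : F) (b : B') (x : I), χF.hom φ = g₀.hom b → Θ (b ⊗ₜ x) = φ * f.hom x) ∧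
      (∀ z, z ∈ I.map f.hom ↔ ∃ x, Θ x = z) := by
  letI i1 : Algebra C₀ B' := c'.hom.toAlgebra
  letI i2 : Algebra C₀ A₀ := c.hom.toAlgebra
  letI i3 : Algebra B' F₀ := g₀.hom.toAlgebra
  letI i4 : Algebra A₀ F₀ := f₀.hom.toAlgebra
  letI i5 : Algebra C₀ F₀ := (c' ≫ g₀).hom.toAlgebra
  letI i6 : Algebra A A₀ := χA.hom.toAlgebra
  letI i7 : Algebra A F := f.hom.toAlgebra
  letI i8 : Algebra F F₀ := χF.hom.toAlgebra
  letI i9 : Algebra A F₀ := (f ≫ χF).hom.toAlgebra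
  have j1 : IsScalarTower C₀ B' F₀ := IsScalarTower.of_algebraMap_eq fun _ => rfl
  have j2 : IsScalarTower C₀ A₀ F₀ := IsScalarTower.of_algebraMap_eq fun x =>
    congr($(h0.w).hom x)
  have j3 : IsScalarTower A A₀ F₀ := IsScalarTower.of_algebraMap_eq fun x =>
    congr($(h.w).hom x).symm
  have j4 : IsScalarTower A F F₀ := IsScalarTower.of_algebraMap_eq fun _ => rfl
  have j5 : Algebra.IsPushout A F A₀ F₀ := CommRingCat.isPushout_iff_isPushout.1 h.flip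
  have j6 : Algebra.IsPushout C₀ B' A₀ F₀ := CommRingCat.isPushout_iff_isPushout.1 h0
  have j7 : Module.Flat A F := hf
  letI k1 : Module A₀ I := moduleOfSurjective χA.hom hχ hI
  have k2 : ∀ (a : A) (x : I), χA.hom a • x = a • x := moduleOfSurjective_smul χA.hom hχ hI
  have k3 : IsScalarTower A A₀ I := ⟨fun a a₀ x => by
    obtain ⟨a', rfl⟩ := hχ a₀
    have : a • χA.hom a' = χA.hom (a * a') := by
      rw [map_mul]
      rfl
    rw [this, k2, k2, mul_smul]⟩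
  have k4 : IsScalarTower C₀ A₀ I := ⟨fun c₀ a₀ x => by
    obtain ⟨a', rfl⟩ := hχ a₀
    obtain ⟨a, ha⟩ := hχ (c.hom c₀)
    have : c₀ • χA.hom a' = χA.hom (a * a') := by
      rw [map_mul, ha]
      rfl
    rw [this, k2, k2, mul_smul, hm a c₀ _ ha]⟩
  exact Abstract.exists_theta (A₀ := A₀) (F₀ := F₀) I

/-- The degree two part of the simplicial ring over the thin part. -/
theorem exists_degree_two {C₀ B₀ D₀ B D E : CommRingCat.{u}} {ι₀ : C₀ ⟶ B₀} {s₀ t₀ : B₀ ⟶ D₀}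
    {χB : B ⟶ B₀} {χD : D ⟶ D₀} {s t : B ⟶ D} {inl inr : D ⟶ E}
    (h0 : IsPushout ι₀ ι₀ s₀ t₀) 
    (hs : IsPushout χB s s₀ χD) (ht : IsPushout χB t t₀ χD) (hE : IsPushout t s inl inr) :
    ∃ (E₀ : CommRingCat.{u}) (inl₀ inr₀ : D₀ ⟶ E₀) (χE : E ⟶ E₀),
      IsPushout χD inl inl₀ χE ∧ IsPushout χD inr inr₀ χE ∧ IsPushout t₀ s₀ inl₀ inr₀ ∧
      IsPushout ι₀ (ι₀ ≫ s₀) (s₀ ≫ inl₀) inr₀ := by
  have hE0 : IsPushout χD inl (pushout.inl χD inl) (pushout.inr χD inl) :=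
    IsPushout.of_hasPushout _ _
  let inl₀ := pushout.inl χD inl
  let χE := pushout.inr χD inl
  let inr₀ : D₀ ⟶ pushout χD inl := hs.desc (t₀ ≫ inl₀) (inr ≫ χE) (by
    rw [← Category.assoc, ht.w, Category.assoc, hE0.w, ← Category.assoc, hE.w, Category.assoc])
  have f1 : s₀ ≫ inr₀ = t₀ ≫ inl₀ := hs.inl_desc _ _ _
  have f2 : χD ≫ inr₀ = inr ≫ χE := hs.inr_desc _ _ _
  have g1 : IsPushout t₀ s₀ inl₀ inr₀ := by
    have g2 : IsPushout (t ≫ χD) s inl₀ (inr ≫ χE) := hE.paste_horiz hE0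
    rw [← ht.w, ← f2] at g2
    exact g2.of_left f1.symm hs
  have g3 : IsPushout ι₀ (ι₀ ≫ s₀) (s₀ ≫ inl₀) inr₀ := h0.paste_vert g1
  refine ⟨_, inl₀, inr₀, χE, hE0, ?_, g1, g3⟩
  have h1 : IsPushout χB (t ≫ inl) (t₀ ≫ inl₀) χE := ht.paste_vert hE0
  rw [← f1, hE.w] at h1
  exact IsPushout.of_top h1 f2 hs

/-- Base change of a flat ring map. -/
theorem flat_of_isPushout {R S R' S' : CommRingCat.{u}} {f : R ⟶ S} {g : R ⟶ R'} {inl : S ⟶ S'}
    {inr : R' ⟶ S'} (h : IsPushout f g inl inr) (hf : f.hom.Flat) : inr.hom.Flat := by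
  letI i1 : Algebra R S := f.hom.toAlgebra
  letI i2 : Algebra R R' := g.hom.toAlgebra
  letI i3 : Algebra S S' := inl.hom.toAlgebra
  letI i4 : Algebra R' S' := inr.hom.toAlgebra
  letI i5 : Algebra R S' := (f ≫ inl).hom.toAlgebra
  have j1 : IsScalarTower R S S' := IsScalarTower.of_algebraMap_eq fun _ => rfl
  have j2 : IsScalarTower R R' S' := IsScalarTower.of_algebraMap_eq fun x =>
    congr($(h.w).hom x)
  have : Algebra.IsPushout R S R' S' := CommRingCat.isPushout_iff_isPushout.1 h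
  exact RingHom.Flat.isStableUnderBaseChange R S R' S' hf

end Groth.Agent.Sga3.H823.Theta
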